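import Groth.Prelude.Def_DRing2
import Groth.Prelude.Def_DRing4
import Mathlib.CategoryTheory.Monoidal.Rigid.Basic

/-!
# Dualisable complexes of modules
-/

set_option autoImplicit false

universe u

namespace Groth.ExactPair

open CategoryTheory CategoryTheory.Limits MonoidalCategory HomologicalComplex
open scoped TensorProduct

attribute [local instance] HasDerivedCategory.standard

variable {R : Type u} [CommRing R]

/-- The inclusion of a summand. -/
noncomputable abbrev ι (K L : DRing.Cx R) (p q j : ℤ) (h : p + q = j) :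
    K.X p ⊗ L.X q ⟶ (K ⊗ L : DRing.Cx R).X j :=
  ιMapBifunctor K L (curriedTensor (ModuleCat.{u} R)) (ComplexShape.up ℤ) p q j h

/-- The inclusion, on a pure tensor. -/
noncomputable abbrev tm (K L : DRing.Cx R) {p q j : ℤ} (h : p + q = j) (x : K.X p) (y : L.X q) :
    (K ⊗ L : DRing.Cx R).X j :=
  ι K L p q j h (x ⊗ₜ[R] y)

/-- The canonical element of the unit. -/
noncomputable def one₀ : (𝟙_ (DRing.Cx R)).X 0 :=
  (singleObjXSelf (ComplexShape.up ℤ) 0 (𝟙_ (ModuleCat.{u} R))).inv (1 : R)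

/-- The coefficient of an element of the unit. -/
noncomputable def coef : (𝟙_ (DRing.Cx R)).X 0 →ₗ[R] R :=
  (singleObjXSelf (ComplexShape.up ℤ) 0 (𝟙_ (ModuleCat.{u} R))).hom.hom

theorem coef_smul_one₀ (t : (𝟙_ (DRing.Cx R)).X 0) : coef t • one₀ (R := R) = t := by
  unfold one₀
  rw [← map_smul]
  refine Eq.trans (congrArg _ (mul_one _)) ?_
  exact ConcreteCategory.congr_hom
    (singleObjXSelf (ComplexShape.up ℤ) 0 (𝟙_ (ModuleCat.{u} R))).hom_inv_id t

theorem unit_eq_zero {i : ℤ} (hi : i ≠ 0) (t : (𝟙_ (DRing.Cx R)).X i) : t = 0 :=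
  (ModuleCat.subsingleton_of_isZero (isZero_single_obj_X (ComplexShape.up ℤ) 0
    (𝟙_ (ModuleCat.{u} R)) i hi)).elim _ _

theorem whiskerRight_tm {K K' : DRing.Cx R} (g : K ⟶ K') (L : DRing.Cx R) {p q j : ℤ}
    (h : p + q = j) (x : K.X p) (y : L.X q) :
    (g ▷ L).f j (tm K L h x y) = tm K' L h (g.f p x) y := by
  have := ConcreteCategory.congr_hom (ι_mapBifunctorMap g (𝟙 L)
    (curriedTensor (ModuleCat.{u} R)) (ComplexShape.up ℤ) p q j h) (x ⊗ₜ[R] y)
  refine this.trans ?_
  simp [tm]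

theorem whiskerLeft_tm {L L' : DRing.Cx R} (K : DRing.Cx R) (g : L ⟶ L') {p q j : ℤ}
    (h : p + q = j) (x : K.X p) (y : L.X q) :
    (K ◁ g).f j (tm K L h x y) = tm K L' h x (g.f q y) := by
  have := ConcreteCategory.congr_hom (ι_mapBifunctorMap (𝟙 K) g
    (curriedTensor (ModuleCat.{u} R)) (ComplexShape.up ℤ) p q j h) (x ⊗ₜ[R] y)
  refine this.trans ?_
  simp [tm]

theorem leftUnitor_inv_tm (K : DRing.Cx R) (i : ℤ) (m : K.X i) :
    (λ_ K).inv.f i m = tm (𝟙_ (DRing.Cx R)) K (zero_add i) one₀ m := by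
  change (leftUnitor' K).inv i m = _
  rw [leftUnitor'_inv, ConcreteCategory.comp_apply, ConcreteCategory.comp_apply]
  refine congrArg _ ?_
  exact (congrArg _ (ModuleCat.MonoidalCategory.leftUnitor_inv_apply m)).trans
    (ModuleCat.MonoidalCategory.whiskerRight_apply _ _ _ _)

theorem rightUnitor_inv_tm (K : DRing.Cx R) (i : ℤ) (m : K.X i) :
    (ρ_ K).inv.f i m = tm K (𝟙_ (DRing.Cx R)) (add_zero i) m one₀ := by
  change (rightUnitor' K).inv i m = _
  rw [rightUnitor'_inv, ConcreteCategory.comp_apply, ConcreteCategory.comp_apply]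
  refine congrArg _ ?_
  exact (congrArg _ (ModuleCat.MonoidalCategory.rightUnitor_inv_apply m)).trans
    (ModuleCat.MonoidalCategory.whiskerLeft_apply _ _ _ _)

theorem associator_tm (K L M : DRing.Cx R) {p q r pq qr j : ℤ} (h₁ : p + q = pq) (h₂ : q + r = qr)
    (h : pq + r = j) (h' : p + qr = j) (x : K.X p) (y : L.X q) (z : M.X r) :
    (α_ K L M).hom.f j (tm (K ⊗ L) M h (tm K L h₁ x y) z) =
      tm K (L ⊗ M) h' x (tm L M h₂ y z) := by
  subst h₁ h₂
  exact ConcreteCategory.congr_hom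
    (GradedObject.Monoidal.ιTensorObj₃'_associator_hom (X₁ := K.X) (X₂ := L.X) (X₃ := M.X)
      p q r j h) ((x ⊗ₜ[R] y) ⊗ₜ[R] z)

theorem associator_inv_tm (K L M : DRing.Cx R) {p q r pq qr j : ℤ} (h₁ : p + q = pq)
    (h₂ : q + r = qr) (h : pq + r = j) (h' : p + qr = j) (x : K.X p) (y : L.X q) (z : M.X r) :
    (α_ K L M).inv.f j (tm K (L ⊗ M) h' x (tm L M h₂ y z)) =
      tm (K ⊗ L) M h (tm K L h₁ x y) z := by
  rw [← associator_tm K L M h₁ h₂ h h', ← ConcreteCategory.comp_apply, ← comp_f,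
    Iso.hom_inv_id]
  rfl

theorem tm_induction {K L : DRing.Cx R} {j : ℤ} {P : (K ⊗ L : DRing.Cx R).X j → Prop}
    (h0 : P 0) (hadd : ∀ a b, P a → P b → P (a + b))
    (htm : ∀ (p q : ℤ) (h : p + q = j) (x : K.X p) (y : L.X q), P (tm K L h x y))
    (e : (K ⊗ L : DRing.Cx R).X j) : P e := by
  let S : Submodule R ((K ⊗ L : DRing.Cx R).X j) :=
    ⨆ i : { i : ℤ × ℤ // i.1 + i.2 = j }, LinearMap.range (ι K L i.1.1 i.1.2 j i.2).hom
  have hS : ModuleCat.ofHom S.mkQ = 0 := by
    refine HomologicalComplex.mapBifunctor.hom_ext fun p q h => ?_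
    ext t
    exact (Submodule.Quotient.mk_eq_zero S).mpr
      (Submodule.mem_iSup_of_mem (⟨(p, q), h⟩ : { i : ℤ × ℤ // i.1 + i.2 = j }) ⟨t, rfl⟩)
  have he : e ∈ S := (Submodule.Quotient.mk_eq_zero S).mp (ConcreteCategory.congr_hom hS e)
  refine Submodule.iSup_induction _ (motive := P) he (fun i a ha => ?_) h0 hadd
  obtain ⟨t, rfl⟩ := ha
  induction t using TensorProduct.induction_on with
  | zero => rw [map_zero]; exact h0
  | tmul x y => exact htm _ _ i.2 x y
  | add a b ha hb => rw [map_add]; exact hadd _ _ ha hb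

theorem tm_smul_right (K L : DRing.Cx R) {p q j : ℤ} (h : p + q = j) (r : R) (x : K.X p)
    (y : L.X q) : tm K L h x (r • y) = r • tm K L h x y :=
  (congrArg _ (TensorProduct.tmul_smul r x y)).trans (map_smul _ r _)

theorem tm_smul_left (K L : DRing.Cx R) {p q j : ℤ} (h : p + q = j) (r : R) (x : K.X p)
    (y : L.X q) : tm K L h (r • x) y = r • tm K L h x y :=
  (congrArg _ (TensorProduct.smul_tmul' r x y).symm).trans (map_smul _ r _)

/-- An endomorphism of every degree, of finite rank and vanishing in almost all degrees. -/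
def FiniteRank (M : DRing.Cx R) (Ψ : ∀ n : ℤ, M.X n → M.X n) : Prop :=
  ∃ S : Finset ℤ, ∀ n, ∃ (k : ℕ) (x : Fin k → M.X n) (φ : Fin k → (M.X n →ₗ[R] R)),
    (n ∉ S → k = 0) ∧ ∀ m, Ψ n m = ∑ i, φ i m • x i

theorem finiteRank_zero (M : DRing.Cx R) : FiniteRank M (fun _ _ => 0) :=
  ⟨∅, fun _ => ⟨0, Fin.elim0, Fin.elim0, fun _ => rfl, fun _ => by simp⟩⟩

theorem finiteRank_add {M : DRing.Cx R} {Ψ Ψ' : ∀ n : ℤ, M.X n → M.X n} (h : FiniteRank M Ψ)
    (h' : FiniteRank M Ψ') : FiniteRank M (fun n m => Ψ n m + Ψ' n m) := by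
  classical
  obtain ⟨S, hS⟩ := h
  obtain ⟨S', hS'⟩ := h'
  refine ⟨S ∪ S', fun n => ?_⟩
  obtain ⟨k, x, φ, hk, hΨ⟩ := hS n
  obtain ⟨k', x', φ', hk', hΨ'⟩ := hS' n
  refine ⟨k + k', Fin.append x x', Fin.append φ φ', fun hn => ?_, fun m => ?_⟩
  · simp only [Finset.mem_union, not_or] at hn
    rw [hk hn.1, hk' hn.2]
  · simp [Fin.sum_univ_add, hΨ, hΨ']

theorem finiteRank_single (M : DRing.Cx R) (p : ℤ) (x : M.X p) (φ : M.X p →ₗ[R] R)
    (Ψ : ∀ n : ℤ, M.X n → M.X n) (hp : ∀ m, Ψ p m = φ m • x) (hne : ∀ n, n ≠ p → ∀ m, Ψ n m = 0) :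
    FiniteRank M Ψ := by
  refine ⟨{p}, fun n => ?_⟩
  rcases eq_or_ne n p with rfl | hn
  · exact ⟨1, fun _ => x, fun _ => φ, fun h => absurd (Finset.mem_singleton_self n) h,
      fun m => by simp [hp]⟩
  · exact ⟨0, Fin.elim0, Fin.elim0, fun _ => rfl, fun m => by simp [hne n hn]⟩

theorem bounded_and_finite_projective {M : DRing.Cx R} (h : FiniteRank M (fun _ m => m)) :
    (∃ a b : ℤ, DRing.VanishesOutside M a b) ∧ DRing.TermwiseFiniteProjective M := by
  classical
  obtain ⟨S, hS⟩ := h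
  constructor
  · obtain ⟨b, hb⟩ := S.bddAbove
    obtain ⟨a, ha⟩ := S.bddBelow
    refine ⟨a, b, fun i hi => ?_⟩
    obtain ⟨k, x, φ, hk, hid⟩ := hS i
    have hi' : i ∉ S := fun hm => by
      rcases hi with hi | hi
      · exact absurd (ha hm) (not_le.mpr hi)
      · exact absurd (hb hm) (not_le.mpr hi)
    obtain rfl := hk hi'
    have : Subsingleton (M.X i) := ⟨fun a b => by
      rw [show a = _ from hid a, show b = _ from hid b]
      simp⟩
    exact ModuleCat.isZero_of_subsingleton _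
  · intro n
    obtain ⟨k, x, φ, -, hid⟩ := hS n
    let π : (Fin k → R) →ₗ[R] M.X n := Fintype.linearCombination R x
    have hs : π ∘ₗ LinearMap.pi φ = LinearMap.id := LinearMap.ext fun m => by
      rw [LinearMap.comp_apply, Fintype.linearCombination_apply]
      exact (hid m).symm
    exact ⟨Module.Finite.of_surjective π fun m => ⟨_, LinearMap.congr_fun hs m⟩,
      Module.Projective.of_split (LinearMap.pi φ) π hs⟩


theorem finiteRank_left (M N : DRing.Cx R) [ExactPairing M N] : FiniteRank M (fun _ m => m) := by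
  let Ψ : (M ⊗ N : DRing.Cx R).X 0 → ∀ n : ℤ, M.X n → M.X n := fun e n m =>
    (ρ_ M).hom.f n ((M ◁ ε_ M N).f n ((α_ M N M).hom.f n (tm (M ⊗ N) M (zero_add n) e m)))
  have hid : Ψ ((η_ M N).f 0 one₀) = fun _ m => m := by
    funext n m
    have := ExactPairing.evaluation_coevaluation M N
    have h2 := congrArg (fun g => (λ_ M).inv ≫ g ≫ (ρ_ M).hom) this
    simp only [Category.assoc, Iso.inv_hom_id, Category.comp_id, Iso.inv_hom_id_assoc] at h2
    have h3 := ConcreteCategory.congr_hom (congrArg (fun g => g.f n) h2) m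
    simp only [comp_f, ConcreteCategory.comp_apply, id_f] at h3
    rw [leftUnitor_inv_tm, whiskerRight_tm] at h3
    exact h3
  rw [← hid]
  refine tm_induction (P := fun e => FiniteRank M (Ψ e)) ?_ ?_ ?_ _
  · convert finiteRank_zero M using 1
    funext n m
    simp [Ψ, tm]
  · intro a b ha hb
    convert finiteRank_add ha hb using 1
    funext n m
    simp [Ψ, tm, TensorProduct.add_tmul]
  · intro p q h x y
    refine finiteRank_single M p x (coef ∘ₗ ((ε_ M N).f 0).hom ∘ₗ
      (ι N M q p 0 (by omega)).hom ∘ₗ TensorProduct.mk R _ _ y) _ (fun m => ?_) fun n hn m => ?_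
    · change (ρ_ M).hom.f p _ = _
      rw [associator_tm M N M h (by omega : q + p = 0) (zero_add p) (add_zero p), whiskerLeft_tm,
        ← coef_smul_one₀ ((ε_ M N).f 0 _)]
      rw [tm_smul_right, map_smul]
      refine congrArg _ ?_
      rw [← rightUnitor_inv_tm, ← ConcreteCategory.comp_apply, ← comp_f, Iso.inv_hom_id]
      rfl
    · change (ρ_ M).hom.f n _ = _
      rw [associator_tm M N M h (rfl : q + n = q + n) (zero_add n) (by omega : p + (q + n) = n),
        whiskerLeft_tm, unit_eq_zero (by omega : q + n ≠ 0) ((ε_ M N).f (q + n) _)]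
      simp [tm]

theorem finiteRank_right (M N : DRing.Cx R) [ExactPairing M N] : FiniteRank N (fun _ m => m) := by
  let Ψ : (M ⊗ N : DRing.Cx R).X 0 → ∀ n : ℤ, N.X n → N.X n := fun e n m =>
    (λ_ N).hom.f n ((ε_ M N ▷ N).f n ((α_ N M N).inv.f n (tm N (M ⊗ N) (add_zero n) m e)))
  have hid : Ψ ((η_ M N).f 0 one₀) = fun _ m => m := by
    funext n m
    have := ExactPairing.coevaluation_evaluation M N
    have h2 := congrArg (fun g => (ρ_ N).inv ≫ g ≫ (λ_ N).hom) this
    simp only [Category.assoc, Iso.inv_hom_id, Category.comp_id, Iso.inv_hom_id_assoc] at h2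
    have h3 := ConcreteCategory.congr_hom (congrArg (fun g => g.f n) h2) m
    simp only [comp_f, ConcreteCategory.comp_apply, id_f] at h3
    rw [rightUnitor_inv_tm, whiskerLeft_tm] at h3
    exact h3
  rw [← hid]
  refine tm_induction (P := fun e => FiniteRank N (Ψ e)) ?_ ?_ ?_ _
  · convert finiteRank_zero N using 1
    funext n m
    simp [Ψ, tm]
  · intro a b ha hb
    convert finiteRank_add ha hb using 1
    funext n m
    simp [Ψ, tm, TensorProduct.tmul_add]
  · intro p q h x y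
    refine finiteRank_single N q y (coef ∘ₗ ((ε_ M N).f 0).hom ∘ₗ
      (ι N M q p 0 (by omega)).hom ∘ₗ (TensorProduct.mk R _ _).flip x) _ (fun m => ?_)
      fun n hn m => ?_
    · change (λ_ N).hom.f q _ = _
      rw [associator_inv_tm N M N (by omega : q + p = 0) h (zero_add q) (add_zero q),
        whiskerRight_tm, ← coef_smul_one₀ ((ε_ M N).f 0 _)]
      rw [tm_smul_left, map_smul]
      refine congrArg _ ?_
      rw [← leftUnitor_inv_tm, ← ConcreteCategory.comp_apply, ← comp_f, Iso.inv_hom_id]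
      rfl
    · change (λ_ N).hom.f n _ = _
      rw [associator_inv_tm N M N (rfl : n + p = n + p) h (by omega : n + p + q = n) (add_zero n),
        whiskerRight_tm, unit_eq_zero (by omega : n + p ≠ 0) ((ε_ M N).f (n + p) _)]
      simp [tm]

end Groth.ExactPair
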